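import Cfsg.Agent.Class.Sp4E.Sz
import Cfsg.Agent.Class.Sp4E.L2
import Cfsg.Agent.CIT.Main
import Cfsg.Agent.S0254

/-! Absolutely irreducible simple subgroups of `Sp₄(q)`, `q` even. -/

set_option autoImplicit false

namespace Cfsg.Lib.Class.Sp4E

open Module Ev QuadraticMap Cfsg.Lib.Chev

theorem main {F : Type*} [Field F] [Fintype F] [CharP F 2]
    {L : Subgroup ((Fin 4 → F) ≃ₗ[F] (Fin 4 → F))} [IsSimpleGroup L] (hc : ¬ IsMulCommutative L)
    (C : Ctx (B4 F) L) (h4 : 4 ≤ Fintype.card F)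
    (cm : ∀ f : End F (Fin 4 → F), (∀ g ∈ L, ∀ v, f (g v) = g (f v)) → ∃ c : F, ∀ v, f v = c • v)
    (tr : ∀ F₀ : Subfield F, (∀ g ∈ L, LinearMap.trace F _ g.toLinearMap ∈ F₀) → F₀ = ⊤)
    (hQ : ∀ Q : QuadraticForm F _, (∀ u v, polar Q u v = B4 F u v) → ¬ L ≤ Orth.O Q)
    (hS : ¬ SpB (B4 F) ≤ L) : ∃ m, 1 ≤ m ∧ Fintype.card F = 2 ^ (2 * m + 1) ∧
      Nonempty (L ≃* Cfsg.Lie.Sz F (2 ^ (m + 1))) := by
  obtain ⟨s, s0, s1⟩ : ∃ s : F, s ≠ 0 ∧ s ≠ 1 := by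
    classical
    obtain ⟨s, h0, h1⟩ := exists_ne_ne_of_three_le_card (by omega) (0 : F) 1
    exact ⟨s, h0.symm, h1⟩
  have hn : finrank F (Fin 4 → F) = 4 := by simp
  have c2 : C2 (B4 F) L := fun t ht h2 t1 => by
    rcases inv_cases C hn ht h2 t1 with ⟨a, h⟩ | ⟨a, w, c, a0, hw, hm, rfl | rfl, h⟩
    · rcases tv_cases C hn (gen_of_simple C h) s0 s1 with ⟨F₀, h0, H⟩ | H | ⟨Q, hp, H⟩
      · obtain ⟨b, hb⟩ := exists_basis_of_mem C hn h H
        exact (h0 (tr F₀ fun g hg => LinearMap.trace_eq_matrix_trace F b g.toLinearMap ▸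
          sum_mem fun i _ => hb g hg i i)).elim
      · exact (hS H).elim
      · exact (hQ Q hp H).elim
    · exact (a2_case hc C.le s0 s1 ht t1 hw h).elim (fun ⟨F₀, h0, H⟩ => (h0 (tr F₀ H)).elim)
        fun H => (hS H).elim
    · exact ⟨a, w, a0, hw, hm, h⟩
  haveI : Finite ((Fin 4 → F) ≃ₗ[F] (Fin 4 → F)) := Finite.of_injective _ DFunLike.coe_injective
  have inj : ∀ {H : Type} [Group H] (e : L ≃* H), Function.Injective
      ((Subgroup.inclusion C.le).comp e.symm.toMonoidHom) := fun e =>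
    (Subgroup.inclusion_injective C.le).comp e.symm.injective
  rcases Cfsg.Lib.CIT.citStrong.out (G := L) (by by_contra! h; exact hc ⟨⟨h⟩⟩) (fun t ht g => by
      obtain ⟨a, w, a0, hw, hm, h⟩ := c2 t t.2
        (by rw [← Subgroup.coe_mul, ← pow_two, ← ht, pow_orderOf_eq_one]; rfl)
        fun e => by simp [show t = 1 from Subtype.ext e] at ht
      exact ⟨2, Subtype.ext (Subtype.ext (h.pow_four C hn a0 hw hm (C.le g.1.2)
        (congrArg Subtype.val (Subgroup.mem_centralizer_singleton_iff.1 g.2))))⟩) with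
    ⟨K, _, _, h | ⟨n, -, h⟩ | ⟨hp, h7, k, hk⟩, ⟨e⟩⟩ | ⟨K, _, _, h, ⟨e⟩⟩ | ⟨K, _, _, m, hm, hK, ⟨e⟩⟩
  · obtain ⟨e'⟩ := Cfsg.Agent.S0254.result h
    refine (fixF_one_ne_top s0 s1 (tr _ fun g hg => ?_)).elim
    simpa [trace_mt] using a6_case _ (inj (e.trans e')) (e' (e ⟨g, hg⟩))
  · haveI := charP_two_of_card h
    obtain ⟨Q, hp, H⟩ := l2_case C hn cm c2 (Q₁ := proj 0 3 + proj 1 2)
      (fun u v => by simp [polar, B4_apply]; ring)
      ((Known.GL2.equivPSL (CharTwo.two_eq_zero (R := K))).trans e.symm)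
    exact (hQ Q hp H).elim
  · exact (not_psl2 hp h7 hk _ (inj e)).elim
  · haveI := charP_two_of_card (n := 2) h
    exact (not_psl3 _ (inj e)).elim
  · let M := (lieSzModel hm hK).ofEquiv e
    have hF := sz_card M hK _ (Subgroup.inclusion_injective C.le) (tr _ fun g hg => by
      simpa [trace_mt] using sz_trace M hK (Subgroup.inclusion C.le) ⟨g, hg⟩)
    obtain ⟨e'⟩ := (lieSzModel hm hF).nonempty_sub_equiv_of_card M (E := ⊤)
      (by rw [← hF, Nat.card_congr Subfield.topEquiv.toEquiv, Nat.card_eq_fintype_card])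
    exact ⟨m, hm, hF, ⟨e'.symm.trans ((MulEquiv.subgroupCongr
      ((lieSzModel hm hF).sub_eq_top_iff.2 rfl)).trans Subgroup.topEquiv)⟩⟩

end Cfsg.Lib.Class.Sp4E
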